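import Mathlib
import Cfsg.Prelude.Def_Blocks
import Cfsg.Agent.Lib.Helper16.BlockBasic
import Cfsg.Agent.Lib.Helper75.RegularBlock
import Cfsg.Agent.Lib.Helper80.Coset

/-!
# Blocks of `G ⧸ N` versus blocks of `G` for a normal `p`-subgroup `N` (helper82)
-/

set_option autoImplicit false
set_option linter.unusedSectionVars false

namespace Cfsg.Agent.Lib.Helper82

open Cfsg Cfsg.Agent.Lib.Helper78
open scoped ComplexConjugate

section general

variable {G : Type*} [Group G] (N : Subgroup G) [N.Normal]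

theorem centralizer_le_comap (g : G) :
    Subgroup.centralizer ({g} : Set G) ≤
      (Subgroup.centralizer ({(g : G ⧸ N)} : Set (G ⧸ N))).comap (QuotientGroup.mk' N) := by
  intro x hx
  rw [Subgroup.mem_comap, Subgroup.mem_centralizer_singleton_iff]
  rw [Subgroup.mem_centralizer_singleton_iff] at hx
  have := congrArg (QuotientGroup.mk' N) hx
  simpa using this

theorem index_centralizer_dvd (g : G) :
    (Subgroup.centralizer ({(g : G ⧸ N)} : Set (G ⧸ N))).index ∣
      (Subgroup.centralizer ({g} : Set G)).index := by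
  rw [← Subgroup.index_comap_of_surjective _ (QuotientGroup.mk'_surjective N)]
  exact Subgroup.index_dvd_of_le (centralizer_le_comap N g)

/-- the central character of an inflated function -/
theorem centralChar_inflate (χ : G ⧸ N → ℂ) (g : G) (c : ℕ)
    (hc : (Subgroup.centralizer ({g} : Set G)).index =
      (Subgroup.centralizer ({(g : G ⧸ N)} : Set (G ⧸ N))).index * c) :
    centralChar (χ ∘ QuotientGroup.mk) g = (c : ℂ) * centralChar χ (g : G ⧸ N) := by
  unfold centralChar
  rw [hc]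
  simp only [Function.comp_apply, QuotientGroup.mk_one]
  push_cast
  ring

/-- same block in `G ⧸ N` implies same block in `G` (any normal subgroup). -/
theorem sameBlock_inflate {M : Ideal AlgInt} (hM : M.IsPrime) {χ ψ : G ⧸ N → ℂ}
    (h : SameBlock M χ ψ) :
    SameBlock M (χ ∘ QuotientGroup.mk) (ψ ∘ QuotientGroup.mk) := by
  intro g
  obtain ⟨c, hc⟩ := index_centralizer_dvd N g
  rw [centralChar_inflate N χ g c hc, centralChar_inflate N ψ g c hc, ← mul_sub]
  exact MemLocalIdeal.mul_left hM (memLocalRing_natCast hM c) (h g)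

end general

section pgroup

variable {G : Type*} [Group G] [Finite G] (p : ℕ) [Fact p.Prime] (N : Subgroup G) [N.Normal]

/-- a `p`-regular element centralizing the normal `p`-subgroup `N` has the same class size in
`G` and in `G ⧸ N`. -/
theorem index_centralizer_eq (hN : IsPGroup p N) (g : G) (hg : ¬ p ∣ orderOf g)
    (hgN : g ∈ Subgroup.centralizer (N : Set G)) :
    (Subgroup.centralizer ({g} : Set G)).index =
      (Subgroup.centralizer ({(g : G ⧸ N)} : Set (G ⧸ N))).index := by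
  rw [← Subgroup.index_comap_of_surjective _ (QuotientGroup.mk'_surjective N)]
  congr 1
  apply le_antisymm (centralizer_le_comap N g)
  intro x hx
  rw [Subgroup.mem_comap, Subgroup.mem_centralizer_singleton_iff] at hx
  rw [Subgroup.mem_centralizer_singleton_iff]
  -- `n = g⁻¹ * (x * g * x⁻¹) ∈ N`
  have hn : g⁻¹ * (x * g * x⁻¹) ∈ N := by
    rw [← QuotientGroup.eq_one_iff]
    have h1 : ((x : G ⧸ N)) * (g : G ⧸ N) = (g : G ⧸ N) * (x : G ⧸ N) := hx
    have : ((g⁻¹ * (x * g * x⁻¹) : G) : G ⧸ N) =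
        (g : G ⧸ N)⁻¹ * ((x : G ⧸ N) * (g : G ⧸ N)) * (x : G ⧸ N)⁻¹ := by
      simp [mul_assoc]
    rw [this, h1]
    group
  set n := g⁻¹ * (x * g * x⁻¹) with hndef
  have hcomm : Commute g n := (Subgroup.mem_centralizer_iff.1 hgN n hn).symm
  have hgn : g * n = x * g * x⁻¹ := by rw [hndef]; group
  set m := orderOf g with hm
  have h1 : (g * n) ^ m = 1 := by
    rw [hgn, conj_pow, pow_orderOf_eq_one]; group
  rw [hcomm.mul_pow, pow_orderOf_eq_one, one_mul] at h1
  obtain ⟨k, hk⟩ := hN ⟨n, hn⟩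
  have hk' : n ^ p ^ k = 1 := by
    have := congrArg Subtype.val hk
    simpa using this
  have hcop : Nat.Coprime m (p ^ k) :=
    Nat.Coprime.pow_right k ((Nat.Prime.coprime_iff_not_dvd (Fact.out : p.Prime)).2 hg).symm
  have hn1 : n = 1 := by
    have h2 : orderOf n ∣ m := orderOf_dvd_of_pow_eq_one h1
    have h3 : orderOf n ∣ p ^ k := orderOf_dvd_of_pow_eq_one hk'
    have h4 : orderOf n = 1 := Nat.eq_one_of_dvd_coprimes hcop h2 h3
    exact orderOf_eq_one_iff.1 h4
  rw [hn1, mul_one] at hgn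
  calc x * g = x * g * x⁻¹ * x := by group
    _ = g * x := by rw [← hgn]

/-- `p`-regular elements of `G ⧸ N` lift to `p`-regular elements of `G`. -/
theorem exists_regular_lift (hN : IsPGroup p N) (y : G ⧸ N) (hy : ¬ p ∣ orderOf y) :
    ∃ g : G, ¬ p ∣ orderOf g ∧ (g : G ⧸ N) = y := by
  obtain ⟨x, rfl⟩ := QuotientGroup.mk_surjective y
  set m := orderOf (x : G ⧸ N) with hm
  have hxm : x ^ m ∈ N := by
    rw [← QuotientGroup.eq_one_iff, QuotientGroup.mk_pow, pow_orderOf_eq_one]
  obtain ⟨k, hk⟩ := hN ⟨x ^ m, hxm⟩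
  have hk' : (x ^ m) ^ p ^ k = 1 := by
    have := congrArg Subtype.val hk
    simpa using this
  have hcop : Nat.Coprime (p ^ k) m :=
    Nat.Coprime.pow_left k ((Nat.Prime.coprime_iff_not_dvd (Fact.out : p.Prime)).2 hy)
  obtain ⟨u, hu⟩ := exists_pow_eq_self_of_coprime hcop
  refine ⟨(x ^ p ^ k) ^ u, ?_, ?_⟩
  · intro hdvd
    apply hy
    refine hdvd.trans (orderOf_dvd_of_pow_eq_one ?_)
    rw [← pow_mul, ← pow_mul]
    have : p ^ k * (u * m) = m * p ^ k * u := by ring
    rw [this, pow_mul, pow_mul, hk', one_pow]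
  · rw [QuotientGroup.mk_pow, QuotientGroup.mk_pow]
    exact hu

/-- every block of `G` contains a character having the normal `p`-subgroup `N` in its kernel. -/
theorem exists_mem_block_ker {M : Ideal AlgInt} (hM : IsPModular p M) (hN : IsPGroup p N)
    (B : Set (IrrCharacter G)) (hB : IsPBlock M B) :
    ∃ θ ∈ B, ∀ n ∈ N, (θ : G → ℂ) n = (θ : G → ℂ) 1 := by
  classical
  have := Fintype.ofFinite G
  by_contra hcon
  push Not at hcon
  have hMp := pmod_isPrime hM
  have h0 : ∀ θ ∈ B, ∑ n : N, (θ : G → ℂ) n = 0 := by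
    intro θ hθ
    obtain ⟨n, hn, hne⟩ := hcon θ hθ
    have := Cfsg.Agent.Lib.Helper80.sum_coset_eq_zero θ.2 N ⟨n, hn, hne⟩ 1
    simpa using this
  have h1 : ∑ n : N, blockCoeff B (n : G) = blockCoeff B 1 := by
    rw [Finset.sum_eq_single (1 : N)]
    · rfl
    · intro n _ hn
      apply Cfsg.Agent.Lib.Helper75.blockCoeff_eq_zero_of_singular hM hB
      obtain ⟨k, hk⟩ := (IsPGroup.iff_orderOf.1 hN) n
      rw [Subgroup.orderOf_coe, hk]
      rcases k with _ | k
      · exfalso
        apply hn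
        rw [pow_zero, orderOf_eq_one_iff] at hk
        exact hk
      · exact dvd_pow_self p (Nat.succ_ne_zero k)
    · intro h; exact absurd (Finset.mem_univ _) h
  have h2 : ∑ n : N, blockCoeff B (n : G) = 0 := by
    simp_rw [blockCoeff_eq_sum]
    rw [← Finset.mul_sum, Finset.sum_comm]
    rw [Finset.sum_eq_zero, mul_zero]
    intro θ _
    by_cases hθ : θ ∈ B
    · rw [← Finset.mul_sum, ← Finset.mul_sum, ← map_sum, h0 θ hθ]
      simp
    · simp [hθ]
  have h3 : blockCoeff B 1 ≠ 0 := by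
    rw [blockCoeff_eq_sum]
    apply mul_ne_zero
    · simp
    · obtain ⟨θ₀, hθ₀⟩ := IsPBlock.nonempty hMp hB
      have hterm : ∀ θ : IrrCharacter G, (if θ ∈ B then (1 : ℂ) else 0) *
          ((θ : G → ℂ) 1 * conj ((θ : G → ℂ) 1)) =
          (((if θ ∈ B then (1 : ℝ) else 0) * ((charDegree (θ : G → ℂ) : ℕ) : ℝ) ^ 2 : ℝ) : ℂ) := by
        intro θ
        rw [Cfsg.Agent.Lib.Helper80.char_one_eq_charDegree
          (Cfsg.Agent.Lib.Helper80.isCharacter_of_irr θ.2)]
        by_cases hθ : θ ∈ B <;> simp [hθ, sq]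
      rw [Finset.sum_congr rfl (fun θ _ => hterm θ), ← Complex.ofReal_sum]
      have hpos : (0 : ℝ) < ∑ θ : IrrCharacter G,
          (if θ ∈ B then (1 : ℝ) else 0) * ((charDegree (θ : G → ℂ) : ℕ) : ℝ) ^ 2 := by
        apply Finset.sum_pos'
        · intro θ _
          by_cases hθ : θ ∈ B <;> simp [hθ]
        · refine ⟨θ₀, Finset.mem_univ _, ?_⟩
          have := Cfsg.Agent.Lib.Helper80.charDegree_pos_of_irr θ₀.2
          simp only [hθ₀, if_true, one_mul]
          positivity
      exact_mod_cast hpos.ne'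
  exact h3 (h1 ▸ h2)

/-- every block of `G` contains an inflation from `G ⧸ N`. -/
theorem exists_mem_block_inflate {M : Ideal AlgInt} (hM : IsPModular p M) (hN : IsPGroup p N)
    (B : Set (IrrCharacter G)) (hB : IsPBlock M B) :
    ∃ χ : IrrCharacter (G ⧸ N), ∃ θ ∈ B, (θ : G → ℂ) = (χ : G ⧸ N → ℂ) ∘ QuotientGroup.mk := by
  obtain ⟨θ, hθ, hker⟩ := exists_mem_block_ker p N hM hN B hB
  obtain ⟨ψ, hψ, hψθ⟩ := Cfsg.Agent.Lib.Helper80.exists_deflate_irr N θ.2 hker
  exact ⟨⟨ψ, hψ⟩, θ, hθ, funext fun g => (hψθ g).symm⟩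

/-- descent of blocks: if the central characters of `G ⧸ N` vanish mod `M` at the images of the
`p`-regular elements not centralizing `N`, then same block in `G` implies same block in `G ⧸ N`. -/
theorem sameBlock_deflate {M : Ideal AlgInt} (hM : IsPModular p M) (hN : IsPGroup p N)
    (H : ∀ g : G, ¬ p ∣ orderOf g → g ∉ Subgroup.centralizer (N : Set G) →
      ∀ η : IrrCharacter (G ⧸ N), MemLocalIdeal M (centralChar (η : G ⧸ N → ℂ) (g : G ⧸ N)))
    (χ ψ : IrrCharacter (G ⧸ N))
    (h : SameBlock M ((χ : G ⧸ N → ℂ) ∘ QuotientGroup.mk) ((ψ : G ⧸ N → ℂ) ∘ QuotientGroup.mk)) :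
    SameBlock M (χ : G ⧸ N → ℂ) (ψ : G ⧸ N → ℂ) := by
  have hMp := pmod_isPrime hM
  apply Cfsg.Agent.Lib.Helper75.sameBlock_of_regular hM
  intro y hy
  obtain ⟨g, hg, rfl⟩ := exists_regular_lift p N hN y hy
  by_cases hgN : g ∈ Subgroup.centralizer (N : Set G)
  · have hidx := index_centralizer_eq p N hN g hg hgN
    have h1 := h g
    rw [centralChar_inflate N _ g 1 (by rw [mul_one]; exact hidx),
      centralChar_inflate N _ g 1 (by rw [mul_one]; exact hidx)] at h1
    simpa using h1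
  · exact MemLocalIdeal.sub hMp (H g hg hgN χ) (H g hg hgN ψ)

end pgroup

end Cfsg.Agent.Lib.Helper82
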