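import Mathlib
import Cfsg.Prelude.Def_Blocks
import Cfsg.Agent.Lib.Helper82.PPrimeKer
import Cfsg.Agent.Lib.Helper82.QuotBlock
import Cfsg.Agent.Lib.Helper76.PSolvable
import Cfsg.Agent.Lib.Helper1.Fitting
import Cfsg.Agent.Lib.Lead.Cores
import Cfsg.Agent.S4487
import Cfsg.Agent.S0044

/-!
# The principal block of a `p`-constrained (`p`-solvable, solvable) group is `Irr(G / O_{p'}(G))`
(helper82)
-/

set_option autoImplicit false
set_option linter.unusedSectionVars false

namespace Cfsg.Agent.Lib.Helper82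

open Cfsg Cfsg.Agent.Lib.Helper78

variable {G : Type*} [Group G] [Finite G] (p : ℕ) [Fact p.Prime]

theorem not_dvd_card_pPrimeCore : ¬ p ∣ Nat.card (pPrimeCore p G) := by
  have := Cfsg.Agent.Lib.Lead.card_pPrimeCore_coprime (G := G) p
  exact fun hd => (Nat.Prime.coprime_iff_not_dvd (Fact.out : p.Prime)).1 this.symm hd

/-- characters of the principal block have `O_{p'}(G)` in their kernel. -/
theorem ker_of_mem_principalBlock {M : Ideal AlgInt} (hM : IsPModular p M) {χ : IrrCharacter G}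
    (hχ : χ ∈ principalBlock M G) :
    ∀ n ∈ pPrimeCore p G, (χ : G → ℂ) n = (χ : G → ℂ) 1 := by
  have h1 : SameBlock M ((trivIrr G : IrrCharacter G) : G → ℂ) (χ : G → ℂ) := hχ
  exact ker_of_sameBlock p hM (pPrimeCore p G) (not_dvd_card_pPrimeCore p) h1 (fun n _ => rfl)

/-- if `G / O_{p'}(G)` has a self-centralizing `O_p`, the principal block of `G` is
`Irr (G / O_{p'}(G))`. -/
theorem mem_principalBlock_iff_of_constrained {M : Ideal AlgInt} (hM : IsPModular p M)
    (hc : Subgroup.centralizer ((pCore p (G ⧸ pPrimeCore p G)) : Set (G ⧸ pPrimeCore p G)) ≤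
      pCore p (G ⧸ pPrimeCore p G)) (χ : IrrCharacter G) :
    χ ∈ principalBlock M G ↔ ∀ n ∈ pPrimeCore p G, (χ : G → ℂ) n = (χ : G → ℂ) 1 := by
  have hMp := pmod_isPrime hM
  refine ⟨fun h => ker_of_mem_principalBlock p hM h, fun hχ => ?_⟩
  obtain ⟨ψ, hψ, hψχ⟩ := Cfsg.Agent.Lib.Helper80.exists_deflate_irr (pPrimeCore p G) χ.2 hχ
  have h1 := Cfsg.Agent.S4487.result p M hM
    (Cfsg.Agent.Lib.Lead.pPrimeCore_quotient_pPrimeCore p G) hc
    (trivIrr (G ⧸ pPrimeCore p G)) ⟨ψ, hψ⟩
  have h2 := sameBlock_inflate (pPrimeCore p G) hMp h1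
  have h3 : (χ : G → ℂ) = ψ ∘ QuotientGroup.mk := funext fun g => (hψχ g).symm
  show SameBlock M (fun _ : G => (1 : ℂ)) (χ : G → ℂ)
  rw [h3]
  exact h2

/-- Fong: the principal block of a `p`-solvable group is `Irr (G / O_{p'}(G))`. -/
theorem mem_principalBlock_iff_of_isPSolvable {M : Ideal AlgInt} (hM : IsPModular p M)
    (hsol : IsPSolvable p G) (χ : IrrCharacter G) :
    χ ∈ principalBlock M G ↔ ∀ n ∈ pPrimeCore p G, (χ : G → ℂ) n = (χ : G → ℂ) 1 :=
  mem_principalBlock_iff_of_constrained p hM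
    (Cfsg.Agent.Lib.Helper76.centralizer_pCore_le
      (Cfsg.Agent.Lib.Helper76.isPSolvable_quotient (pPrimeCore p G) hsol)
      (Cfsg.Agent.Lib.Lead.pPrimeCore_quotient_pPrimeCore p G)) χ

/-- in a solvable group with `O_{p'} = 1`, `O_p` contains its centralizer. -/
theorem centralizer_pCore_le_of_isSolvable [Group.IsSolvable G] (hcore : pPrimeCore p G = ⊥) :
    Subgroup.centralizer ((pCore p G) : Set G) ≤ pCore p G := by
  have hF : fittingSubgroup G = pCore p G := by
    rw [Cfsg.Agent.Lib.Helper1.fittingSubgroup_eq_iSup_pCore]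
    apply le_antisymm
    · refine iSup_le fun q => ?_
      by_cases hq : (q : ℕ) = p
      · rw [hq]
      · have hqp : IsPGroup (q : ℕ) (pCore (q : ℕ) G) := Cfsg.Agent.Lib.Lead.pCore_isPGroup _ G
        have : Fact (q : ℕ).Prime := ⟨q.2⟩
        obtain ⟨k, hk⟩ := IsPGroup.iff_card.mp hqp
        have hcop : (Nat.card (pCore (q : ℕ) G)).Coprime p := by
          rw [hk]
          exact Nat.Coprime.pow_left k ((Nat.coprime_primes q.2 (Fact.out : p.Prime)).2 hq)
        have := Cfsg.Agent.Lib.Lead.le_pPrimeCore (Cfsg.Agent.Lib.Lead.pCore_normal' (q : ℕ) G) hcop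
        rw [hcore] at this
        exact this.trans bot_le
    · exact le_iSup (fun q : Nat.Primes => pCore (q : ℕ) G) ⟨p, Fact.out⟩
  have := Cfsg.Agent.S0044.result (G := G)
  rwa [hF] at this

/-- the principal block of a solvable group is `Irr (G / O_{p'}(G))`. -/
theorem mem_principalBlock_iff_of_isSolvable [Group.IsSolvable G] {M : Ideal AlgInt}
    (hM : IsPModular p M) (χ : IrrCharacter G) :
    χ ∈ principalBlock M G ↔ ∀ n ∈ pPrimeCore p G, (χ : G → ℂ) n = (χ : G → ℂ) 1 :=
  mem_principalBlock_iff_of_constrained p hM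
    (centralizer_pCore_le_of_isSolvable p
      (Cfsg.Agent.Lib.Lead.pPrimeCore_quotient_pPrimeCore p G)) χ

end Cfsg.Agent.Lib.Helper82
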