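import Mathlib
import Cfsg.Agent.S0081
import Cfsg.Agent.S0907
import Cfsg.Agent.Lib.Helper2.PGroupFrattini
import Cfsg.Agent.Lib.Helper2.PComplement
import Cfsg.Agent.Lib.Helper78.DimBlock
import Cfsg.Agent.Lib.Helper80.Linear
import Cfsg.Agent.Lib.Helper80.CoreDvd
import Cfsg.Agent.Lib.Helper82.PrincipalBlock
import Cfsg.Agent.Lib.Lead.Residual

/-!
# The Isaacs--Smith argument (helper82)

`Θ = ∑_{χ ∈ B₀} χ(1) χ` vanishes on `p`-singular elements and `Θ(1) / |P|` is prime to `p`.  Hence for
every linear character `μ` of a Sylow `p`-subgroup `P`, `∑_{χ ∈ B₀} χ(1) [χ_P, μ] ≢ 0 (mod p)`.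
Together with Tate's theorem this gives normal `p`-complement criteria.
-/

set_option autoImplicit false

namespace Cfsg.Agent.Lib.Helper82

open Cfsg
open Cfsg.Agent.Lib.Helper78 Cfsg.Agent.Lib.Helper80 Cfsg.Agent.Lib.Helper74
open scoped ComplexConjugate

/-- An element of a finite `p`-group outside the Frattini subgroup is detected by a linear character
of order `p`. -/
theorem exists_hom_ne_one_of_not_mem_frattini {P : Type*} [Group P] [Finite P] {p : ℕ}
    [Fact p.Prime] (hP : IsPGroup p P) {y : P} (hy : y ∉ frattini P) :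
    ∃ μ : P →* ℂˣ, (∀ x, μ x ^ p = 1) ∧ μ y ≠ 1 := by
  have hp : p.Prime := Fact.out
  unfold frattini Order.radical at hy
  simp only [Subgroup.mem_iInf, not_forall] at hy
  obtain ⟨H, hH, hyH⟩ := hy
  obtain ⟨hN, hi⟩ := Cfsg.Agent.Lib.Helper2.isCoatom_normal_index hP hH
  have hcard : Nat.card (P ⧸ H) = p := by rw [← Subgroup.index_eq_card, hi]
  have : IsCyclic (P ⧸ H) := isCyclic_of_prime_card hcard
  let _ : CommGroup (P ⧸ H) := IsCyclic.commGroup
  have hne : (QuotientGroup.mk y : P ⧸ H) ≠ 1 := by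
    rw [Ne, QuotientGroup.eq_one_iff]
    exact hyH
  obtain ⟨φ, hφ⟩ := CommGroup.exists_apply_ne_one_of_hasEnoughRootsOfUnity (P ⧸ H) ℂ hne
  refine ⟨φ.comp (QuotientGroup.mk' H), ?_, hφ⟩
  intro x
  rw [← map_pow]
  have : (x ^ p : P) ∈ H := by
    have := Subgroup.pow_index_mem H x
    rwa [hi] at this
  simp only [MonoidHom.coe_comp, Function.comp_apply, QuotientGroup.mk'_apply]
  rw [(QuotientGroup.eq_one_iff _).2 this, map_one]

/-- If every linear character of order dividing `p` of a Sylow `p`-subgroup extends to a linear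
character of `G`, then `G` has a normal `p`-complement (via Tate's theorem). -/
theorem hasNormalPComplement_of_extend {G : Type*} [Group G] [Finite G] {p : ℕ} [Fact p.Prime]
    (P : Sylow p G)
    (h : ∀ μ : P →* ℂˣ, (∀ x, μ x ^ p = 1) → ∃ l : G →* ℂˣ, ∀ x : P, l x = μ x) :
    HasNormalPComplement p G := by
  have hp : p.Prime := Fact.out
  have key : pResidual p G ⊓ (P : Subgroup G) ≤ (frattini P).map (P : Subgroup G).subtype := by
    rintro y ⟨hy1, hy2⟩
    by_contra hcon
    have hyF : (⟨y, hy2⟩ : P) ∉ frattini P := fun hh => hcon ⟨⟨y, hy2⟩, hh, rfl⟩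
    obtain ⟨μ, hμp, hμy⟩ := exists_hom_ne_one_of_not_mem_frattini P.2 hyF
    obtain ⟨l, hl⟩ := h μ hμp
    set n := Nat.card G with hn
    have hn0 : n ≠ 0 := Nat.card_pos.ne'
    set m := ordCompl[p] n with hm
    have hcop : Nat.Coprime p m := (Nat.coprime_ordCompl hp hn0)
    obtain ⟨k, hk1, hk0⟩ := Nat.chineseRemainder hcop 1 0
    have hmk : m ∣ k := (Nat.modEq_zero_iff_dvd).1 hk0
    have hker : pResidual p G ≤ (l ^ k).ker := by
      unfold pResidual
      rw [Subgroup.closure_le]
      intro g hg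
      have hg' : Nat.Coprime (orderOf g) p := hg
      have h1 : orderOf g ∣ m := by
        have h2 : orderOf g ∣ ordProj[p] n * m := by
          rw [Nat.ordProj_mul_ordCompl_eq_self]
          exact orderOf_dvd_natCard g
        exact (Nat.Coprime.pow_right _ hg').dvd_of_dvd_mul_left h2
      show g ∈ (l ^ k).ker
      rw [MonoidHom.mem_ker, MonoidHom.pow_apply, ← map_pow,
        orderOf_dvd_iff_pow_eq_one.1 (h1.trans hmk), map_one]
    have h1 : (l ^ k) y = 1 := hker hy1
    have h2 : (l ^ k) y = μ ⟨y, hy2⟩ := by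
      rw [MonoidHom.pow_apply]
      have := hl ⟨y, hy2⟩
      simp only at this
      rw [this]
      have h3 : orderOf (μ ⟨y, hy2⟩) ∣ p := orderOf_dvd_of_pow_eq_one (hμp _)
      have h4 : k ≡ 1 [MOD orderOf (μ ⟨y, hy2⟩)] := hk1.of_dvd h3
      have := pow_eq_pow_iff_modEq.2 h4
      rwa [pow_one] at this
    exact hμy (h2 ▸ h1)
  have hT := Cfsg.Agent.S0081.result P (pResidual p G) key
  rw [Cfsg.Agent.Lib.Helper2.hasNormalPComplement_iff] at hT ⊢
  have h1 := Cfsg.Agent.Lib.Helper2.map_pResidual_subtype_eq p (pResidual p G) le_rfl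
  rw [← h1, Subgroup.card_map_of_injective (Subgroup.subtype_injective _)]
  exact hT

section
variable {G : Type*} [Group G] [Finite G] {p : ℕ} [Fact p.Prime]

/-- The multiplicities `m χ = [χ_P, μ]` of a linear character `μ` of a Sylow `p`-subgroup `P`
satisfy `∑_{χ ∈ B₀} χ(1) m(χ) ≢ 0 (mod p)`. -/
theorem exists_mult_principalBlock {M : Ideal AlgInt} (hM : IsPModular p M) (P : Sylow p G)
    (μ : P →* ℂˣ) :
    ∃ m : IrrCharacter G → ℕ,
      (∀ χ : IrrCharacter G, ∑ᶠ y : (P : Subgroup G), (χ : G → ℂ) y * conj ((μ y : ℂˣ) : ℂ) =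
        (Nat.card P : ℂ) * m χ) ∧
      ¬ p ∣ ∑ᶠ χ ∈ principalBlock M G, charDegree (χ : G → ℂ) * m χ := by
  classical
  have hp : p.Prime := Fact.out
  have hMp := pmod_isPrime hM
  have := Fintype.ofFinite G
  have : Fintype P := Fintype.ofFinite _
  let μc : IrrCharacter P := ⟨fun y => ((μ y : ℂˣ) : ℂ), isIrrCharacter_of_hom μ⟩
  choose m hm using fun χ : IrrCharacter G => IsCharacter.classInner_irr_nat
    (IsCharacter.restrict (IrrCharacter.isCharacter χ) (P : Subgroup G)) μc
  have hP0 : (Nat.card P : ℂ) ≠ 0 := Nat.cast_ne_zero.2 Nat.card_pos.ne'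
  have hm' : ∀ χ : IrrCharacter G, ∑ y : P, (χ : G → ℂ) y * conj ((μ y : ℂˣ) : ℂ) =
        (Nat.card P : ℂ) * m χ := by
    intro χ
    rw [← hm χ]
    unfold classInner
    rw [← mul_assoc, mul_inv_cancel₀ hP0, one_mul]
  refine ⟨m, fun χ => by rw [finsum_eq_sum_of_fintype]; exact hm' χ, ?_⟩
  set B := principalBlock M G with hB
  have hBb : IsPBlock M B := isPBlock_principalBlock
  -- vanishing of `Θ` on `P \ {1}`
  have hT : ∀ y : P, y ≠ 1 →
      ∑ χ : IrrCharacter G, (if χ ∈ B then (χ : G → ℂ) 1 * (χ : G → ℂ) y else 0) = 0 := by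
    intro y hy
    have hy1 : p ∣ orderOf ((y : G)⁻¹) := by
      rw [orderOf_inv, Subgroup.orderOf_coe]
      obtain ⟨k, hk⟩ := (IsPGroup.iff_orderOf.1 P.2) y
      rw [hk]
      have hk0 : k ≠ 0 := by
        rintro rfl
        rw [pow_zero, orderOf_eq_one_iff] at hk
        exact hy hk
      exact dvd_pow_self p hk0
    have h := Cfsg.Agent.S0907.result p M hM B hBb 1 (y : G)⁻¹ (by simp [hp.one_lt.ne'] ) hy1
    rw [finsum_mem_irr] at h
    refine Eq.trans ?_ h
    apply Finset.sum_congr rfl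
    intro χ _
    rw [IsCharacter.inv (IrrCharacter.isCharacter χ), Complex.conj_conj]
  set N : ℕ := ∑ χ : IrrCharacter G, if χ ∈ B then charDegree (χ : G → ℂ) ^ 2 else 0 with hN
  set S : ℕ := ∑ χ : IrrCharacter G, if χ ∈ B then charDegree (χ : G → ℂ) * m χ else 0 with hS
  have hSN : Nat.card P * S = N := by
    have : (Nat.card P : ℂ) * (S : ℂ) = (N : ℂ) := by
      have h1 : (Nat.card P : ℂ) * (S : ℂ) = ∑ χ : IrrCharacter G, ∑ y : P,
          conj ((μ y : ℂˣ) : ℂ) * (if χ ∈ B then (χ : G → ℂ) 1 * (χ : G → ℂ) y else 0) := by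
        rw [hS]
        push_cast
        rw [Finset.mul_sum]
        apply Finset.sum_congr rfl
        intro χ _
        split_ifs with h
        · rw [IsCharacter.charDegree_eq (IrrCharacter.isCharacter χ), mul_left_comm, ← hm' χ,
            Finset.mul_sum]
          apply Finset.sum_congr rfl
          intro y _
          ring
        · simp
      rw [h1, Finset.sum_comm]
      rw [Finset.sum_eq_single (1 : ↥(P : Subgroup G))]
      · rw [hN]
        push_cast
        apply Finset.sum_congr rfl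
        intro χ _
        split_ifs with h
        · rw [IsCharacter.charDegree_eq (IrrCharacter.isCharacter χ)]
          simp [sq]
        · simp
      · intro y _ hy
        rw [← Finset.mul_sum, hT y hy, mul_zero]
      · intro h; exact absurd (Finset.mem_univ _) h
    exact_mod_cast this
  have hfac := factorization_sum_sq hM hBb
  have hinf : sInf ((fun χ : IrrCharacter G => (charDegree (χ : G → ℂ)).factorization p) '' B) = 0 := by
    rw [Nat.sInf_eq_zero]
    left
    refine ⟨trivIrr G, trivIrr_mem_principalBlock hMp, ?_⟩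
    have : charDegree ((trivIrr G : IrrCharacter G) : G → ℂ) = 1 := by
      simp [charDegree, trivIrr]
    simp [this]
  rw [hinf, add_zero] at hfac
  have hN0 : N ≠ 0 := by
    have h1 : (if trivIrr G ∈ B then charDegree ((trivIrr G : IrrCharacter G) : G → ℂ) ^ 2 else 0) ≤ N :=
      Finset.single_le_sum (f := fun χ : IrrCharacter G =>
        if χ ∈ B then charDegree (χ : G → ℂ) ^ 2 else 0) (fun _ _ => Nat.zero_le _)
        (Finset.mem_univ (trivIrr G))
    rw [if_pos (trivIrr_mem_principalBlock hMp)] at h1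
    have : charDegree ((trivIrr G : IrrCharacter G) : G → ℂ) = 1 := by
      simp [charDegree, trivIrr]
    rw [this] at h1
    omega
  rw [finsum_mem_irr]
  intro hdvd
  have hcardP : Nat.card P = p ^ (Nat.card G).factorization p := P.card_eq_multiplicity
  have h2 : p ^ ((Nat.card G).factorization p + 1) ∣ N := by
    rw [← hSN, hcardP, pow_succ]
    exact Nat.mul_dvd_mul_left _ hdvd
  have h3 := (Nat.Prime.pow_dvd_iff_le_factorization hp hN0).1 h2
  have h4 : N.factorization p = (Nat.card G).factorization p := hfac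
  omega

omit [Fact p.Prime] in
/-- a linear character of `G` whose restriction to `P` is not orthogonal to `μ` extends `μ`. -/
theorem eq_of_sum_ne_zero (P : Subgroup G) (l : G →* ℂˣ) (μ : P →* ℂˣ)
    (h : ∑ᶠ y : P, ((l y : ℂˣ) : ℂ) * conj ((μ y : ℂˣ) : ℂ) ≠ 0) : ∀ x : P, l x = μ x := by
  classical
  have : Fintype P := Fintype.ofFinite _
  let a : IrrCharacter P := ⟨fun y => (((l.comp P.subtype) y : ℂˣ) : ℂ),
    isIrrCharacter_of_hom (l.comp P.subtype)⟩
  let b : IrrCharacter P := ⟨fun y => ((μ y : ℂˣ) : ℂ), isIrrCharacter_of_hom μ⟩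
  by_cases hab : a = b
  · intro x
    have := congrFun (congrArg Subtype.val hab) x
    exact Units.ext this
  · exfalso
    apply h
    have h0 := classInner_irr_ne hab
    unfold classInner at h0
    have hP0 : (Nat.card P : ℂ)⁻¹ ≠ 0 := inv_ne_zero (Nat.cast_ne_zero.2 Nat.card_pos.ne')
    rw [finsum_eq_sum_of_fintype]
    exact (mul_eq_zero.1 h0).resolve_left hP0

/-- In a group with a normal `p`-complement the characters of `p'`-degree of the principal block
are linear. -/
theorem charDegree_eq_one_of_hasNormalPComplement {M : Ideal AlgInt} (hM : IsPModular p M)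
    (h : HasNormalPComplement p G) {χ : IrrCharacter G} (hχ : χ ∈ principalBlock M G)
    (hd : ¬ p ∣ charDegree (χ : G → ℂ)) : charDegree (χ : G → ℂ) = 1 := by
  have hp : p.Prime := Fact.out
  obtain ⟨k, hk⟩ := Cfsg.Agent.Lib.Lead.hasNormalPComplement_iff_index_pPrimeCore.mp h
  have h1 := charDegree_dvd_index χ (pPrimeCore p G) (ker_of_mem_principalBlock p hM hχ)
  rw [hk] at h1
  obtain ⟨j, -, hj⟩ := (Nat.dvd_prime_pow hp).1 h1
  rcases Nat.eq_zero_or_pos j with rfl | hj0
  · simpa using hj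
  · exact absurd (hj ▸ dvd_pow_self p hj0.ne') hd

/-- **Isaacs--Smith.** If all characters of `p'`-degree in the principal block are linear, then `G`
has a normal `p`-complement. -/
theorem hasNormalPComplement_of_linear {M : Ideal AlgInt} (hM : IsPModular p M)
    (h : ∀ χ : IrrCharacter G, χ ∈ principalBlock M G → ¬ p ∣ charDegree (χ : G → ℂ) →
      charDegree (χ : G → ℂ) = 1) : HasNormalPComplement p G := by
  classical
  have hp : p.Prime := Fact.out
  obtain ⟨P⟩ : Nonempty (Sylow p G) := inferInstance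
  apply hasNormalPComplement_of_extend P
  intro μ _
  obtain ⟨m, hm, hnd⟩ := exists_mult_principalBlock hM P μ
  rw [finsum_mem_irr] at hnd
  have hex : ∃ χ : IrrCharacter G, χ ∈ principalBlock M G ∧ ¬ p ∣ charDegree (χ : G → ℂ) * m χ := by
    by_contra hcon
    push Not at hcon
    apply hnd
    apply Finset.dvd_sum
    intro χ _
    split_ifs with hχ
    · exact hcon χ hχ
    · exact dvd_zero p
  obtain ⟨χ, hχ, hχd⟩ := hex
  have h1 : ¬ p ∣ charDegree (χ : G → ℂ) := fun hd => hχd (Dvd.dvd.mul_right hd _)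
  have h2 : m χ ≠ 0 := by
    rintro h0
    rw [h0, mul_zero] at hχd
    exact hχd (dvd_zero p)
  have h3 := h χ hχ h1
  have h4 : (χ : G → ℂ) 1 = 1 := by
    rw [← IsCharacter.charDegree_eq (IrrCharacter.isCharacter χ), h3, Nat.cast_one]
  obtain ⟨l, hl⟩ := exists_hom_of_degree_one (IrrCharacter.isCharacter χ) h4
  refine ⟨l, eq_of_sum_ne_zero (P : Subgroup G) l μ ?_⟩
  have h5 := hm χ
  simp only [hl] at h5
  rw [h5]
  exact mul_ne_zero (Nat.cast_ne_zero.2 Nat.card_pos.ne') (Nat.cast_ne_zero.2 h2)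

end

end Cfsg.Agent.Lib.Helper82
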